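import Cfsg.Agent.H326.QS.FiRow

/-!
# The triples of the classes 15 … 29 of `Fi22` (helper326; words found by helper494)
-/

set_option autoImplicit false
set_option maxRecDepth 1000000
set_option exponentiation.threshold 300000

namespace Cfsg.Agent.H326.QS.FiRow

theorem good15 : Good [2, 4, 1, 7, 3, 5]
    [8, 2, 5] [1, 4, 7, 3] :=
  good_of_chk
    (k := [8, 2, 3, 7, 4, 1, 2])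
    (h := [2, 5, 8, 4, 2, 4])
    (k' := [1, 2, 5, 6, 0, 6, 3, 7, 4, 3, 7, 4, 3, 2, 3, 4, 7, 8, 7, 3, 2, 3, 8, 5, 4, 2, 3, 7, 8, 2, 3, 5, 7, 5, 4,
    3, 6, 5, 1, 0, 2, 3, 4, 7, 3, 8, 1, 2, 3, 4, 5, 7, 3, 2, 1, 4, 3, 7, 8, 7, 4, 2, 3, 1, 2, 0, 1, 5, 2, 1, 2, 3, 4,
    5, 6, 7, 3, 2, 1, 4, 3, 2, 5, 4, 8, 7, 3, 2, 1, 0, 4, 3, 2, 1, 5, 7, 3, 4])
    (h' := [7, 3, 0, 7, 2, 3, 6, 1, 3, 8, 5, 4, 8, 2, 3, 7, 2, 5, 2, 1, 4, 8, 4, 8])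
    (p := 5) (by decide +kernel) (by decide +kernel) (by decide +kernel)

theorem good16 : Good [2, 4, 1, 7, 3, 5]
    [1, 7, 4] [2, 3] :=
  good_of_chk
    (k := [5, 1, 4, 7])
    (h := [1])
    (k' := [3, 7, 4, 3, 2, 1, 2, 7, 3, 4, 6, 5, 3, 1, 0, 2, 1, 3, 4, 7, 3, 2, 3, 0, 7, 4, 5, 1, 2, 3, 0, 2, 1, 4, 7,
    5, 4, 3, 7, 2, 3, 4, 6, 5, 4, 3, 2, 6, 7, 3, 4, 5, 4, 3, 4])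
    (h' := [3, 4, 7, 1, 6, 1, 3, 0, 2, 3, 1, 4, 5, 4, 5, 7, 6, 2, 5, 1, 6, 0])
    (p := 5) (by decide +kernel) (by decide +kernel) (by decide +kernel)

theorem good17 : Good [2, 4, 1, 7, 3, 5]
    [5, 0, 3, 8] [1, 6, 7] :=
  good_of_chk
    (k := [6, 0, 8, 7])
    (h := [1, 8, 0, 2, 0, 8, 4])
    (k' := [3, 4, 0, 8, 2, 1, 2, 3, 7, 4, 3, 2, 1, 0, 1, 2, 3, 7, 4, 3, 2, 1, 7, 4, 2, 0, 3, 4, 7, 3, 2, 7, 5, 3, 4,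
    3, 8, 2, 1, 6, 7, 3, 4, 5, 1, 2, 6, 4, 3, 2, 7, 3, 4, 5, 7, 1, 8, 2, 3, 4, 7, 3, 2, 0, 1, 4, 3, 2, 3, 7, 4, 3, 2,
    0, 1, 3, 5, 4, 3, 7, 2, 3, 4, 5, 7, 5, 2, 3, 1, 2, 3, 4, 5, 6, 7, 3, 2, 1, 4])
    (h' := [2, 8, 6, 2, 1, 0, 4, 2, 7, 0, 5, 0, 5, 0, 7, 3, 7, 2, 0, 4, 3, 8, 7, 6])
    (p := 5) (by decide +kernel) (by decide +kernel) (by decide +kernel)

theorem good18 : Good [2, 4, 1, 7, 3, 5]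
    [4, 3, 6, 2, 3] [7, 3, 5] :=
  good_of_chk
    (k := [2, 1, 5, 7, 3, 7, 6])
    (h := [1, 2])
    (k' := [0, 4, 5, 1, 2, 3, 7, 4, 3, 2, 1, 0, 1, 2, 3, 7, 4, 3, 2, 1, 7, 4, 2, 0, 3, 4, 7, 3, 2, 3, 4, 7, 3, 6, 4,
    3, 4, 3, 2, 3, 7, 5, 4, 3, 5, 7, 5, 6, 3, 1, 2, 3, 7])
    (h' := [2, 1, 4, 6, 3, 7, 2, 4, 1, 7, 0, 6, 3, 7])
    (p := 5) (by decide +kernel) (by decide +kernel) (by decide +kernel)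

theorem good19 : Good [2, 4, 1, 7, 3, 5]
    [7, 1, 8, 3, 5, 7, 7, 2] [1, 2, 8, 7, 3, 4, 3] :=
  good_of_chk
    (k := [3, 7, 4, 3, 2, 1, 4, 8, 3, 2, 3])
    (h := [0, 3, 7, 0, 3])
    (k' := [6, 3, 7, 4, 2, 3, 8, 7, 4, 3, 4, 8, 5, 6, 4, 5, 2, 3, 4, 2, 8, 1, 0, 2, 1, 3, 4, 7, 3, 2, 3, 0, 7, 4, 5,
    1, 2, 3, 0, 2, 1, 4, 5, 6, 3, 1, 2, 3, 4, 5, 6, 7, 3, 2, 4, 3, 5])
    (h' := [7, 2, 6, 3, 6, 1, 0, 1, 6, 1, 3, 2, 4, 8, 2, 3, 2, 5])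
    (p := 5) (by decide +kernel) (by decide +kernel) (by decide +kernel)

theorem good20 : Good [2, 4, 1, 7, 3, 5]
    [7, 1, 5] [3, 2, 4, 8] :=
  good_of_chk
    (k := [3, 7, 4, 2, 3, 8])
    (h := [1, 8, 5])
    (k' := [8, 2, 0, 7, 1, 7, 3, 7, 0, 8, 7, 3, 4, 2, 3, 7, 8, 4, 5, 6, 4, 8, 5, 4, 3, 7, 8, 2, 3, 7, 5, 4, 3, 1, 0,
    2, 1, 3, 4, 7, 3, 2, 3, 0, 7, 4, 5, 1, 2, 3, 0, 2, 1, 7, 4, 3, 1, 2])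
    (h' := [1, 4, 8, 4, 2, 3, 7, 1, 2, 1, 6, 4, 5, 4, 0, 3, 1, 8, 4, 0, 2])
    (p := 5) (by decide +kernel) (by decide +kernel) (by decide +kernel)

theorem good21 : Good [2, 4, 1, 7, 3, 5]
    [1, 4, 6] [0, 5] :=
  good_of_chk
    (k := [0, 1, 5, 0, 6])
    (h := [1, 7, 0, 7, 5, 1])
    (k' := [6, 4, 3, 4, 8, 7, 8, 4, 5, 6, 4, 8, 5, 4, 3, 7, 5, 2, 3, 4, 5, 4, 3, 7, 1, 0, 1, 2, 1, 5, 3, 0, 2, 6, 4,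
    3, 8, 7, 3, 4, 2, 3, 1, 2, 0, 1, 5, 1, 2, 3, 4, 5, 6, 7, 3, 2, 1, 4, 3, 2, 5, 4, 3, 8, 7, 3, 2, 4, 3, 5, 4, 6, 7,
    3, 2, 1])
    (h' := [3, 6, 1, 0, 7, 0, 3, 1, 3, 2, 0, 6, 3, 1, 4, 5, 2, 4])
    (p := 5) (by decide +kernel) (by decide +kernel) (by decide +kernel)

theorem good22 : Good [2, 4, 1, 7, 3, 5]
    [1, 7, 0, 5, 2, 1] [3, 2, 6, 7, 3, 5, 4, 5, 7, 3, 4, 8] :=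
  good_of_chk
    (k := [1, 0, 4, 5, 6, 7, 3, 7, 8, 2, 1, 0, 2, 3, 4, 5, 6, 7, 3, 8])
    (h := [3, 4, 2, 6, 0, 5])
    (k' := [2, 4, 8, 6, 3, 7, 4, 3, 8, 7, 4, 3, 4, 8, 5, 4, 2, 3, 7, 8, 2, 3, 4, 5, 4, 2, 5, 6, 2, 1, 0, 2, 3, 4, 5,
    7, 3, 8, 1, 2, 3, 4, 5, 6, 7, 3, 2, 1, 4, 3, 2, 8, 7, 4, 3, 2, 0, 1, 2, 1, 2, 3, 4, 5, 6, 7, 3, 2, 1, 4, 3, 5, 4,
    7, 3, 8])
    (h' := [1, 3, 4, 6, 7, 6, 3, 0, 6])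
    (p := 5) (by decide +kernel) (by decide +kernel) (by decide +kernel)

theorem good23 : Good [2, 4, 1, 7, 3, 5]
    [3, 6, 7, 2, 3] [5, 4, 7] :=
  good_of_chk
    (k := [3, 7, 4, 3, 4, 5, 6, 4, 7])
    (h := [7, 2, 1, 5, 3, 1, 2, 3, 6])
    (k' := [8, 5, 3, 2, 3, 8, 7, 3, 4, 2, 3, 7, 8, 5, 4, 6, 3, 8, 1, 2, 0, 3, 2, 1, 5, 4, 7, 0, 3, 2, 3, 7, 4, 3, 1,
    2, 0, 1, 8, 5, 4, 3, 5, 2, 5, 6, 1, 2, 3, 4, 5, 6, 7, 3, 2, 1, 4, 3, 5, 4, 7, 3, 8, 7, 3, 2, 4, 3, 5, 4, 7, 3, 2,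
    1])
    (h' := [1, 5, 4, 2, 0, 5, 3, 2, 4, 1, 5])
    (p := 5) (by decide +kernel) (by decide +kernel) (by decide +kernel)

theorem good24 : Good [2, 4, 1, 7, 3, 5]
    [0, 8, 3] [1, 2, 7] :=
  good_of_chk
    (k := [0, 8, 7, 1, 2])
    (h := [6, 1, 2, 7, 4])
    (k' := [5, 6, 3, 2, 3, 7, 1, 8, 2, 3, 4, 7, 3, 2, 0, 1, 4, 3, 2, 3, 7, 4, 3, 2, 0, 1, 3, 7, 4, 5, 6, 4, 3, 7, 5,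
    6, 2, 8, 1, 2, 3, 4, 7, 8, 0, 1, 3, 8, 2, 3, 7, 3, 1, 4, 8, 3, 5, 0, 2, 1, 2, 6, 2, 4, 2, 3, 1, 0, 2, 3, 4, 5, 7,
    3, 8, 7])
    (h' := [4, 2, 8, 4, 0, 1, 7, 4, 5, 6, 1, 8, 4, 7, 3, 4, 7, 8, 3, 1, 4, 1, 6, 7, 3, 2, 3, 4, 3, 8, 2, 4, 2, 6, 4,
    0])
    (p := 5) (by decide +kernel) (by decide +kernel) (by decide +kernel)

theorem good25 : Good [2, 4, 1, 7, 3, 5]
    [5, 2, 8] [3, 4, 6, 7] :=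
  good_of_chk
    (k := [8, 4, 7, 6, 5, 4, 3])
    (h := [3, 7, 2, 0, 5, 4])
    (k' := [8, 1, 7, 8, 0, 1, 2, 3, 7, 4, 5, 2, 3, 4, 1, 2, 3, 7, 8, 5, 2, 3, 4, 1, 2, 3, 7, 6, 5, 4, 3, 2, 1, 2, 8,
    1, 0, 2, 1, 3, 2, 4, 3, 7, 3, 2, 4, 8, 3, 0, 1, 2, 0, 5, 1, 4, 7, 5, 4, 3, 2, 5, 6, 2, 3, 7, 5, 6, 2, 3, 4, 5, 3,
    2, 7, 4, 3, 5, 4, 6, 5, 7, 3, 8, 2, 7, 6])
    (h' := [7, 3, 0, 2, 7, 2, 1, 8, 7, 2, 4, 1, 3, 7, 2, 3, 8, 2, 7, 2, 8, 0, 7, 2, 7, 0, 1, 0, 1])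
    (p := 5) (by decide +kernel) (by decide +kernel) (by decide +kernel)

theorem good26 : Good [2, 4, 1, 7, 3, 5]
    [1, 7, 6, 3, 0] [1, 2, 4, 3, 5, 4] :=
  good_of_chk
    (k := [0, 5, 6, 4, 5, 3, 4, 1, 0, 2])
    (h := [5, 1, 2])
    (k' := [1, 5, 7, 8, 2, 8, 3, 4, 2, 3, 7, 6, 5, 4, 3, 1, 3, 4, 7, 3, 2, 3, 0, 7, 4, 5, 1, 2, 3, 0, 2, 1, 2, 7, 5,
    6, 5, 4, 3, 2, 6, 7, 3, 4, 5, 7, 4, 3, 2, 0, 3, 4, 7])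
    (h' := [5, 4, 3, 0, 4])
    (p := 5) (by decide +kernel) (by decide +kernel) (by decide +kernel)

theorem good27 : Good [2, 4, 1, 7, 3, 5]
    [5, 4, 6, 7, 0] [1, 3, 2, 6, 7, 3] :=
  good_of_chk
    (k := [3, 7, 3, 2, 0, 1, 4, 3, 6, 4, 5, 0])
    (h := [8, 6, 1, 0, 5, 8, 4])
    (k' := [2, 1, 3, 6, 4, 3, 4, 0, 5, 4, 1, 0, 2, 3, 1, 7, 2, 6, 5, 1, 4, 3, 2, 7, 4, 3, 1, 2, 0, 2, 3, 4, 5, 7, 3,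
    2, 1, 4, 3, 2, 7, 3])
    (h' := [6, 7, 3, 4, 6, 7, 5, 3, 4, 2, 7, 5, 6, 3, 7, 1])
    (p := 5) (by decide +kernel) (by decide +kernel) (by decide +kernel)

theorem good28 : Good [2, 4, 1, 7, 3, 5]
    [7, 5, 4, 2, 1, 3, 5, 2, 4] [0, 6, 7, 3] :=
  good_of_chk
    (k := [7, 6, 4, 3, 4, 5, 1, 0, 2, 1, 3, 2, 4, 3])
    (h := [2, 1])
    (k' := [3, 4, 1, 7, 6, 5, 7, 3, 2, 3, 0, 7, 4, 5, 1, 2, 3, 0, 2, 1, 3, 7, 3, 4, 6, 5, 2, 0, 3, 4, 7, 3, 2, 7, 3,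
    7, 6])
    (h' := [7, 5, 1, 3, 5, 8, 3, 8, 3])
    (p := 5) (by decide +kernel) (by decide +kernel) (by decide +kernel)

theorem good29 : Good [2, 4, 1, 7, 3, 5]
    [5, 1, 7] [2, 3, 4] :=
  good_of_chk
    (k := [1, 6, 3, 7, 4, 5, 6, 4, 3])
    (h := [2, 6])
    (k' := [1, 6, 0, 3, 2, 3, 5, 4, 3, 7, 6, 2, 3, 4, 5, 6, 4, 5, 1, 2, 0, 3, 2, 1, 5, 4, 7, 0, 3, 2, 3, 7, 4, 3, 1,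
    2, 0, 1, 5, 6, 3, 4, 5, 1, 2, 3, 4, 5, 6, 7, 3, 2, 1, 4, 3, 5, 4, 7, 3])
    (h' := [3, 6, 7, 4, 5, 0, 3, 7, 4, 6, 7, 6, 3, 4, 3, 1])
    (p := 5) (by decide +kernel) (by decide +kernel) (by decide +kernel)

end Cfsg.Agent.H326.QS.FiRow
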