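import Cfsg.Agent.H326.QS.FiRow

/-!
# The triples of the classes 30 … 43 of `Fi22` (helper326; words found by helper494)
-/

set_option autoImplicit false
set_option maxRecDepth 1000000
set_option exponentiation.threshold 300000

namespace Cfsg.Agent.H326.QS.FiRow

theorem good30 : Good [2, 4, 1, 7, 3, 5]
    [4, 8, 2] [1, 7, 3] :=
  good_of_chk
    (k := [3, 5, 8, 4, 2, 1, 2, 3])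
    (h := [6, 5, 7])
    (k' := [0, 6, 3, 1, 5, 6, 2, 3, 7, 4, 3, 2, 4, 1, 8, 2, 3, 4, 7, 3, 2, 0, 1, 4, 3, 2, 3, 7, 4, 3, 2, 0, 1, 3, 8,
    7, 3, 4, 2, 3, 8, 4, 2, 5, 3, 4, 7, 6, 7, 8, 2, 7, 3, 2, 5, 4, 5, 3, 7, 3, 2, 4, 5, 6, 1, 0, 2, 3, 4, 7, 3])
    (h' := [2, 4, 1, 0, 7, 2, 1, 2, 6, 1, 5, 1, 4, 3, 5, 4, 7, 0, 2, 6, 2, 4, 1])
    (p := 5) (by decide +kernel) (by decide +kernel) (by decide +kernel)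

theorem good31 : Good [2, 4, 1, 7, 3, 5]
    [8, 5, 7, 2, 8] [1, 3, 4, 7, 3] :=
  good_of_chk
    (k := [7, 3, 7, 8, 7, 4, 3, 4, 2])
    (h := [7, 4])
    (k' := [3, 8, 1, 2, 3, 7, 4, 3, 2, 1, 0, 1, 2, 3, 7, 4, 3, 2, 1, 7, 4, 2, 0, 3, 4, 7, 3, 2, 3, 4, 7, 3, 7, 3, 7,
    3, 2, 3, 5, 4, 3, 7, 6, 2, 3, 4, 5, 6, 4, 3, 2, 7, 3, 4, 5, 7, 2, 8, 3, 7, 5, 6, 4, 8, 1, 2, 0, 3, 2, 1, 5, 4, 7,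
    0, 3, 2, 3, 7, 4, 3, 1, 2, 0, 1, 8, 5, 4, 3, 2, 6, 3, 4, 5, 7, 4, 3, 5, 6, 2, 4, 0, 3, 4, 2, 0, 5, 8, 7, 8, 0, 3,
    4, 7, 2, 1, 0, 2, 1, 5, 4, 3, 7, 8, 3, 4, 2, 3, 7, 6, 5, 4, 3, 2, 1, 8, 7, 5, 4, 3, 2, 0, 2, 3, 4, 5, 6, 7, 3, 2,
    1, 4, 3, 8, 7, 3, 2, 1, 0, 4, 5, 6])
    (h' := [3, 2, 4, 3, 8, 1, 2, 1, 7, 0, 4, 6, 2, 7, 1, 8])
    (p := 5) (by decide +kernel) (by decide +kernel) (by decide +kernel)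

theorem good32 : Good [2, 4, 1, 7, 3, 5]
    [3, 5, 2, 7, 0] [1, 4, 8] :=
  good_of_chk
    (k := [0, 2, 5, 7, 3, 8])
    (h := [2, 4, 7])
    (k' := [7, 6, 8, 2, 7, 4, 3, 2, 3, 4, 1, 8, 2, 3, 4, 7, 3, 2, 0, 1, 4, 3, 2, 3, 7, 4, 3, 2, 0, 1, 3, 8, 7, 3, 4,
    2, 3, 5, 4, 2, 3, 7, 5, 6, 2, 8, 5, 4, 3, 2, 3, 5, 8, 1, 0, 2, 1, 3, 4, 7, 3, 2, 3, 0, 7, 4, 5, 1, 2, 3, 0, 2, 1,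
    2, 6, 5, 1, 2, 3, 4, 5, 6, 7, 3, 2, 1, 4, 3, 2, 5, 7])
    (h' := [7, 5, 4, 2, 3, 2, 5, 7, 2, 8, 1, 0, 3, 5, 0, 5, 4, 6, 2, 0, 2, 7, 5, 8])
    (p := 5) (by decide +kernel) (by decide +kernel) (by decide +kernel)

theorem good33 : Good [2, 4, 1, 7, 3, 5]
    [3, 5, 2] [4, 3, 6, 7] :=
  good_of_chk
    (k := [3, 7, 4, 3, 2, 1, 4, 3, 6, 5])
    (h := [3, 7, 4])
    (k' := [6, 1, 5, 6, 3, 7, 4, 3, 7, 4, 3, 2, 3, 4, 7, 5, 4, 3, 7, 6, 2, 3, 4, 5, 6, 4, 6, 1, 0, 2, 3, 4, 5, 7, 3,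
    2])
    (h' := [3, 7, 1, 2, 3, 1, 4, 3, 7, 4, 8, 2, 1, 2, 0, 2, 6, 4, 1, 5, 8, 4, 6, 5, 2, 8, 3, 0, 4, 6, 8, 4, 0, 5])
    (p := 5) (by decide +kernel) (by decide +kernel) (by decide +kernel)

theorem good34 : Good [2, 4, 1, 7, 3, 5]
    [3, 2, 8, 6, 0] [1, 8, 7, 3, 4, 5] :=
  good_of_chk
    (k := [8, 6, 0, 5, 4, 6, 3, 1, 0, 2])
    (h := [6, 3, 6, 4, 5, 6])
    (k' := [1, 3, 4, 7, 4, 3, 2, 0, 3, 4, 1, 8, 2, 3, 4, 7, 3, 2, 0, 1, 4, 3, 2, 3, 7, 4, 3, 2, 0, 1, 3, 5, 4, 3, 7,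
    5, 6, 2, 3, 5, 3, 4, 1, 2, 3, 4, 5, 6, 7, 3, 2, 4, 3, 5, 4, 7, 3])
    (h' := [1, 5, 4, 8, 2, 0, 8, 7, 3, 6, 7, 5, 2, 1, 4, 1, 0, 5, 1, 2, 5, 3, 1, 0, 8])
    (p := 5) (by decide +kernel) (by decide +kernel) (by decide +kernel)

theorem good35 : Good [2, 4, 1, 7, 3, 5]
    [7, 5, 1] [2, 4, 3] :=
  good_of_chk
    (k := [1, 5, 7])
    (h := [5, 1])
    (k' := [2, 7, 3, 7, 0, 4, 5, 6, 4, 3, 2, 3, 1, 2, 0, 3, 2, 1, 5, 4, 7, 0, 3, 2, 3, 7, 4, 3, 1, 2, 0, 1, 5, 6, 3,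
    4, 5, 1, 2, 3, 4, 5, 6, 7, 3, 2, 1, 4, 3, 5, 4, 7, 3])
    (h' := [0, 6, 4, 1, 5, 3, 7, 5, 6, 5, 3, 2, 3, 0, 6, 1, 4, 5])
    (p := 5) (by decide +kernel) (by decide +kernel) (by decide +kernel)

theorem good36 : Good [2, 4, 1, 7, 3, 5]
    [6, 2, 4, 3, 1, 4] [0, 5, 7, 3] :=
  good_of_chk
    (k := [1, 3, 0, 2, 3, 4, 3, 7, 6])
    (h := [8, 2, 1, 8, 5, 4, 7])
    (k' := [3, 7, 4, 2, 3, 5, 4, 3, 7, 6, 2, 3, 4, 5, 6, 4, 3, 2, 7, 2, 3, 5, 7, 2, 1, 2, 0, 3, 2, 1, 5, 4, 7, 0, 3,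
    2, 3, 7, 5])
    (h' := [3, 8, 6, 8, 1, 4, 2, 1, 7, 3, 6, 0, 2, 0, 7, 1, 8, 2, 3, 8, 2, 0, 2, 4, 2, 3, 4, 2, 6])
    (p := 5) (by decide +kernel) (by decide +kernel) (by decide +kernel)

theorem good37 : Good [2, 4, 1, 7, 3, 5]
    [7, 5, 1] [4, 3, 2, 4, 3, 8] :=
  good_of_chk
    (k := [7, 3, 2, 1, 5, 8, 7, 8])
    (h := [7, 5, 1, 3])
    (k' := [3, 4, 6, 7, 3, 7, 8, 7, 3, 2, 3, 8, 7, 5, 4, 3, 5, 4, 1, 2, 0, 3, 2, 1, 5, 4, 7, 0, 3, 2, 3, 7, 4, 3, 1,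
    2, 0, 1, 3, 4, 7, 5, 6, 3, 4, 5, 1, 0, 2, 1, 3, 2, 7])
    (h' := [1, 6, 4, 0, 5, 7, 1, 8, 6, 4, 3, 6, 5, 4, 1, 4, 1, 2, 7, 0, 3, 8, 6, 2, 5])
    (p := 5) (by decide +kernel) (by decide +kernel) (by decide +kernel)

theorem good38 : Good [2, 4, 1, 7, 3, 5]
    [2, 5, 8] [1, 6, 7, 3] :=
  good_of_chk
    (k := [5, 3, 6, 0, 8, 7, 4, 2, 1])
    (h := [5, 7, 0, 1])
    (k' := [7, 0, 2, 6, 3, 5, 4, 5, 8, 1, 0, 2, 1, 3, 4, 7, 3, 2, 3, 0, 7, 4, 5, 1, 2, 3, 0, 2, 1, 6, 5, 7, 4, 1, 2,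
    3, 4, 5, 7, 3, 2, 1, 4, 3, 2, 7])
    (h' := [4, 3, 7, 5, 3, 8, 0, 3, 7, 8, 0, 5, 2, 8, 7, 4, 6, 0, 7, 4, 0, 3, 7, 0, 6, 3, 4, 8])
    (p := 5) (by decide +kernel) (by decide +kernel) (by decide +kernel)

theorem good39 : Good [2, 4, 1, 7, 3, 5]
    [7, 4, 6, 0, 2] [1, 3, 5] :=
  good_of_chk
    (k := [1, 3, 6, 5, 0])
    (h := [0, 6, 3, 0, 3])
    (k' := [0, 1, 6, 7, 3, 7, 0, 8, 7, 8, 7, 4, 1, 5, 0, 2, 1, 0, 3, 8, 4, 2, 3, 7, 3, 4, 2, 3, 1, 2, 0, 1, 8, 2, 1,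
    2, 3, 4, 5, 6, 7, 3, 2, 1, 4, 3, 2, 5, 4, 7, 8, 7, 3, 2, 1, 4, 3, 5, 4, 7, 3, 2])
    (h' := [7, 5, 1, 2, 0, 3, 5, 1, 0, 4, 3, 5, 4, 2])
    (p := 5) (by decide +kernel) (by decide +kernel) (by decide +kernel)

theorem good40 : Good [2, 4, 1, 7, 3, 5]
    [2, 7, 6, 4, 7, 3, 1, 7] [0, 2, 8, 7, 3, 4, 5, 8] :=
  good_of_chk
    (k := [6, 7, 3, 7, 3, 2, 3, 8, 7, 5, 6, 1, 0, 2, 3, 4])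
    (h := [1, 2, 6, 3])
    (k' := [4, 3, 2, 4, 1, 8, 7, 5, 3, 4, 2, 3, 7, 6, 5, 4, 3, 2, 0, 1, 6, 5, 7, 3, 4, 6, 5, 2, 0, 3, 4, 7, 3, 2, 7,
    3, 7, 6])
    (h' := [3, 7, 8, 5, 0, 7, 3, 7])
    (p := 5) (by decide +kernel) (by decide +kernel) (by decide +kernel)

theorem good41 : Good [2, 4, 1, 7, 3, 5]
    [8, 2, 5] [4, 7, 3] :=
  good_of_chk
    (k := [8, 3, 1, 2, 3, 4, 7])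
    (h := [1, 5, 8])
    (k' := [4, 1, 6, 3, 2, 0, 3, 8, 7, 3, 4, 2, 3, 8, 5, 4, 3, 7, 5, 6, 2, 3, 7, 4, 8, 3, 7, 5, 4, 5, 8, 1, 0, 2, 1,
    3, 4, 7, 3, 2, 3, 0, 7, 4, 5, 1, 2, 3, 0, 2, 1, 8, 7, 4, 8, 4, 2, 1, 2, 0, 3, 2, 1, 5, 4, 7, 0, 3, 2, 3, 7, 4, 3,
    1, 2, 0, 1, 5, 6, 3, 4, 5, 2, 1, 0, 2, 1, 3, 4, 5, 6, 7, 3, 4, 5, 8, 7, 3, 2, 1, 0])
    (h' := [7, 5, 3, 0, 3, 0, 4, 3, 1, 2, 8, 1, 2, 8, 2, 7, 0, 6, 8, 0, 3, 2, 3, 2, 7, 4, 2, 7, 2, 0, 2, 3, 6, 5, 6,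
    1, 8, 4])
    (p := 5) (by decide +kernel) (by decide +kernel) (by decide +kernel)

theorem good42 : Good [2, 4, 1, 7, 3, 5]
    [8, 3, 7, 0, 4, 3, 8, 5, 2, 8] [6, 7, 3, 2, 1] :=
  good_of_chk
    (k := [6, 7, 3, 7, 3, 2, 3, 8, 7, 5, 3, 1, 0, 2, 3, 4, 7])
    (h := [0, 3])
    (k' := [5, 8, 7, 3, 7, 3, 2, 0, 3, 7, 2, 8, 3, 7, 5, 6, 4, 8, 1, 2, 0, 3, 2, 1, 5, 4, 7, 0, 3, 2, 3, 7, 4, 3, 1,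
    2, 0, 1, 8, 5, 4, 3, 2, 6, 3, 4, 5, 7, 8, 5, 4, 2, 3, 7, 6, 5, 4, 2, 6, 5, 3, 7, 1, 2, 3, 4, 5, 7, 3, 2, 1, 4, 8,
    7, 3, 4])
    (h' := [2, 5, 6, 2, 1, 6, 2, 4, 0, 4, 5, 7, 5, 3, 7, 6, 5, 2, 8, 4])
    (p := 5) (by decide +kernel) (by decide +kernel) (by decide +kernel)

theorem good43 : Good [2, 4, 1, 7, 3, 5]
    [7, 5, 1] [0, 4, 3, 2] :=
  good_of_chk
    (k := [5, 3, 7, 4, 3, 2, 3, 1, 0, 2, 3, 4])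
    (h := [0, 3, 5])
    (k' := [1, 2, 3, 7, 4, 2, 3, 5, 4, 6, 1, 2, 0, 3, 2, 1, 5, 4, 7, 0, 3, 2, 3, 7, 4, 3, 1, 2, 0, 1, 3, 7, 5, 6, 4,
    3, 1, 0, 2, 1, 3, 2, 7, 3])
    (h' := [2, 5, 7, 6, 3, 4, 3, 5, 7, 1, 6, 0, 4, 7, 2, 6, 7])
    (p := 5) (by decide +kernel) (by decide +kernel) (by decide +kernel)

end Cfsg.Agent.H326.QS.FiRow
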