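import Cfsg.Agent.H326.QS.FiRow

/-!
# The triples of the classes 44 … 57 of `Fi22` (helper326; words found by helper494)
-/

set_option autoImplicit false
set_option maxRecDepth 1000000
set_option exponentiation.threshold 300000

namespace Cfsg.Agent.H326.QS.FiRow

theorem good44 : Good [2, 4, 1, 7, 3, 5]
    [7, 5, 2, 1, 6, 3, 2, 5, 7] [1, 0, 4, 8, 7, 3, 6, 5, 4] :=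
  good_of_chk
    (k := [8, 7, 5, 4, 3, 2, 1, 5, 4, 3, 6, 5, 7, 8, 3, 0, 2, 3])
    (h := [6])
    (k' := [5, 2, 4, 7, 8, 3, 7, 5, 2, 3, 4, 1, 2, 3, 7, 6, 5, 4, 3, 2, 1, 5, 4, 3, 2, 6, 5, 7, 3, 2, 3, 4, 6, 5, 1,
    0, 2, 1, 3, 4, 7, 2, 3, 6, 4, 2, 7, 6, 5, 3, 1, 0, 2, 4, 1, 0, 3, 4, 7, 3, 6])
    (h' := [3, 6, 5, 7, 6, 8, 0, 4])
    (p := 5) (by decide +kernel) (by decide +kernel) (by decide +kernel)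

theorem good45 : Good [2, 4, 1, 7, 3, 5]
    [5, 8, 2, 0] [1, 3, 4, 7] :=
  good_of_chk
    (k := [3, 0, 8, 7, 8, 4, 2, 1, 2, 3])
    (h := [0, 5])
    (k' := [5, 1, 8, 7, 6, 4, 5, 3, 4, 0, 1, 2, 3, 7, 8, 5, 4, 1, 2, 3, 7, 6, 5, 4, 3, 2, 1, 5, 8, 1, 0, 2, 1, 3, 2,
    4, 3, 7, 8, 3, 4, 6, 2, 0, 3, 5, 1, 2, 1, 0, 1, 7, 2, 3, 2, 3, 4, 6, 5, 4, 8, 7, 3, 2, 4, 3, 7, 8, 7, 4, 3, 2, 3,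
    4, 7, 5, 4, 5, 3, 2, 3, 4, 6, 5, 1, 0, 2, 1, 3, 2, 4, 3, 7, 3, 2, 4, 8, 3, 0, 1, 2, 0, 5, 1, 2, 4, 8, 3, 2, 3, 4,
    6, 5, 4, 7, 3, 7, 6])
    (h' := [5, 7, 8, 3, 2, 3, 7, 8, 3, 7, 3, 8, 6, 4, 8, 1, 3, 0, 5, 6, 4])
    (p := 5) (by decide +kernel) (by decide +kernel) (by decide +kernel)

theorem good46 : Good [2, 4, 1, 7, 3, 5]
    [2, 8, 4, 0] [1, 7, 3, 5] :=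
  good_of_chk
    (k := [0, 5, 8, 3, 2, 1, 7, 0])
    (h := [0, 7, 1])
    (k' := [3, 7, 3, 4, 3, 2, 0, 3, 4, 7, 8, 7, 8, 5, 4, 3, 7, 2, 3, 4, 5, 1, 0, 2, 3, 4, 5, 7, 8, 1, 2, 3, 4, 5, 6,
    7, 3, 2, 1, 4, 3, 2, 5, 7, 3, 8, 7, 3, 2, 1, 4, 3, 2, 7, 3, 4, 5, 7])
    (h' := [5, 4, 1, 0, 7, 1, 5, 0, 7, 0, 1, 3, 4, 3, 1, 8, 4, 1, 5, 7, 6, 8, 4, 3, 4])
    (p := 5) (by decide +kernel) (by decide +kernel) (by decide +kernel)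

theorem good47 : Good [2, 4, 1, 7, 3, 5]
    [4, 8, 0] [1, 7, 3] :=
  good_of_chk
    (k := [8, 3, 1, 0, 2])
    (h := [3, 4, 6])
    (k' := [7, 6, 7, 3, 5, 6, 2, 3, 4, 3, 1, 2, 0, 3, 2, 1, 5, 4, 7, 0, 3, 2, 3, 7, 4, 3, 1, 2, 0, 1, 8, 5, 4, 3, 2,
    6, 5, 7, 8, 7, 8, 3, 2, 0, 3, 8, 7, 4, 3, 4, 5, 4, 2, 3, 7, 2, 5, 4, 2, 1, 5, 0, 2, 1, 0, 3, 8, 4, 2, 3, 7, 3, 4,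
    2, 3, 1, 2, 0, 1, 5, 6, 5, 6, 4, 3, 2, 3, 1, 0, 2, 1, 3, 2, 8, 7, 5, 3, 4, 2, 3, 7, 6, 5, 4, 3, 2, 1, 3, 4, 2, 3,
    1, 2, 0, 2, 3, 4, 5, 7, 3, 2, 1, 4, 3, 2, 7, 8, 7, 3, 2, 1, 0, 4])
    (h' := [2, 3, 5, 2, 6, 4, 8, 3, 0, 4, 2, 6, 1, 5, 6, 5, 1, 4, 8, 7, 8, 5, 8, 7, 2, 1, 7, 5, 3, 2, 6, 8, 4, 5, 4,
    1])
    (p := 5) (by decide +kernel) (by decide +kernel) (by decide +kernel)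

theorem good48 : Good [2, 4, 1, 7, 3, 5]
    [7, 2, 2, 1, 3, 6, 8, 2] [0, 2, 7, 3, 4, 5] :=
  good_of_chk
    (k := [8, 3, 7, 5, 4, 3, 2, 0, 1, 5, 7, 8, 0, 6])
    (h := [8, 6, 2, 1])
    (k' := [8, 2, 3, 7, 4, 3, 2, 1, 0, 1, 2, 3, 7, 4, 3, 2, 1, 7, 4, 2, 0, 3, 4, 7, 3, 2, 8, 7, 3, 2, 3, 8, 1, 4, 2,
    0, 1, 3, 5, 6, 7, 2, 4, 6, 3, 2, 7, 4, 3, 1, 2, 0, 1, 5, 6, 4, 3, 2, 3, 8, 5, 3, 1, 2, 3, 4, 5, 6, 7, 3, 2, 4, 3,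
    7, 8, 7])
    (h' := [8, 6, 8, 2, 4, 3, 8, 1, 4, 6, 4, 5, 8, 2, 6, 0, 4, 1, 8, 5])
    (p := 5) (by decide +kernel) (by decide +kernel) (by decide +kernel)

theorem good49 : Good [2, 4, 1, 7, 3, 5]
    [2, 5, 0, 8] [1, 4, 7, 3, 6] :=
  good_of_chk
    (k := [2, 5, 8, 0, 6])
    (h := [0, 5, 8])
    (k' := [7, 6, 2, 3, 7, 4, 3, 0, 2, 4, 7, 1, 4, 2, 0, 1, 3, 5, 6, 7, 2, 4, 6, 3, 2, 7, 4, 3, 1, 2, 0, 1, 4, 8, 5,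
    4, 2, 3, 7, 2, 5, 3, 5, 1, 0, 2, 1, 3, 2, 4, 3, 7, 8, 3, 4, 6, 2, 0, 3, 5, 1, 2, 1, 0, 1, 7, 4, 2, 3, 7, 4, 2, 8,
    5, 1, 0, 2, 3, 4, 5, 6, 7, 3, 2, 4, 5, 8, 7, 3, 4, 5, 6])
    (h' := [1, 3, 6, 1, 6, 4, 7, 2, 6, 8, 7, 0, 8, 1, 3, 2, 1, 2, 5, 3, 2, 8])
    (p := 5) (by decide +kernel) (by decide +kernel) (by decide +kernel)

theorem good50 : Good [2, 4, 1, 7, 3, 5]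
    [1, 4, 8] [5, 7, 3, 2] :=
  good_of_chk
    (k := [0, 8, 7, 4, 2, 1, 0, 2, 3])
    (h := [8, 0, 4, 5])
    (k' := [4, 1, 6, 3, 7, 4, 3, 0, 2, 4, 7, 8, 7, 4, 3, 4, 8, 4, 5, 6, 4, 3, 2, 3, 5, 6, 8, 1, 0, 2, 1, 3, 4, 7, 3,
    2, 3, 0, 7, 4, 5, 1, 2, 3, 0, 2, 1, 4, 5, 6, 3, 1, 2, 3, 4, 5, 6, 7, 3, 2, 1, 4])
    (h' := [0, 6, 2, 7, 5, 3, 1, 7, 8, 6, 0, 3, 1, 7])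
    (p := 5) (by decide +kernel) (by decide +kernel) (by decide +kernel)

theorem good51 : Good [2, 4, 1, 7, 3, 5]
    [2, 3, 2, 5, 8, 1] [0, 4, 3, 7] :=
  good_of_chk
    (k := [7, 3, 7, 0, 8, 7, 5, 1, 2])
    (h := [8, 2, 8, 3, 5, 7])
    (k' := [4, 3, 7, 8, 2, 3, 7, 6, 5, 4, 3, 2, 1, 2, 5, 7, 5, 4, 3, 2, 7, 3, 4, 5, 8, 3, 2, 4, 3, 7, 8, 3, 1, 0, 2,
    3, 4, 7, 3, 2, 3, 4, 1, 0, 2, 3, 7, 4, 3, 2, 8, 1, 7, 5, 4, 3, 7, 2, 3, 4, 6, 5, 4, 3, 2, 6, 7, 3, 4, 5, 7, 4, 2,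
    0, 3, 4, 7, 3, 2, 7, 3, 7])
    (h' := [8, 7, 2, 3, 8, 2, 3, 8, 4, 7, 8, 3, 2, 0, 6, 0, 5])
    (p := 5) (by decide +kernel) (by decide +kernel) (by decide +kernel)

theorem good52 : Good [2, 4, 1, 7, 3, 5]
    [5, 1, 8, 4] [6, 7, 3, 2] :=
  good_of_chk
    (k := [6, 8, 4, 2, 3, 1, 0, 2, 3, 4, 7])
    (h := [0, 4, 8])
    (k' := [5, 2, 7, 6, 7, 3, 7, 0, 8, 7, 3, 2, 3, 5, 4, 2, 3, 7, 2, 5, 4, 2, 1, 5, 0, 2, 1, 0, 3, 8, 4, 2, 3, 7, 3,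
    4, 2, 3, 1, 2, 0, 1, 5, 6, 5, 6, 4, 3, 2, 3, 8, 3, 7, 5, 6, 4, 8, 1, 2, 0, 3, 2, 1, 5, 4, 7, 0, 3, 2, 3, 7, 4, 3,
    1, 2, 0, 1, 8, 5, 4, 7, 1, 2, 3, 4, 5, 6, 7, 3, 2, 1, 4, 3, 5, 4, 8, 7, 3, 2, 1, 4, 3, 2, 7, 3, 4, 5, 6, 8])
    (h' := [5, 3, 6, 2, 3, 5, 6, 2, 1, 8, 5, 2, 7, 8, 4, 0, 3])
    (p := 5) (by decide +kernel) (by decide +kernel) (by decide +kernel)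

theorem good53 : Good [2, 4, 1, 7, 3, 5]
    [2, 5, 0, 8] [1, 6, 7, 3] :=
  good_of_chk
    (k := [4, 6, 0, 8, 7, 5, 1, 2, 3])
    (h := [1, 4, 8, 0])
    (k' := [3, 4, 3, 2, 3, 8, 7, 3, 4, 2, 3, 5, 4, 2, 3, 7, 2, 6, 1, 2, 0, 3, 2, 1, 5, 4, 7, 0, 3, 2, 3, 7, 4, 3, 1,
    2, 0, 1, 3, 7, 5, 6, 4, 3, 1, 2, 3, 4, 5, 6, 7, 3, 2, 1, 4])
    (h' := [0, 6, 7, 2, 4, 3, 7, 2, 5, 1, 6, 5, 6, 8, 6])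
    (p := 5) (by decide +kernel) (by decide +kernel) (by decide +kernel)

theorem good54 : Good [2, 4, 1, 7, 3, 5]
    [2, 7, 1, 8, 6, 4] [0, 5, 7, 3, 4, 7, 3] :=
  good_of_chk
    (k := [1, 6, 7, 3, 7, 8, 7, 5, 4, 2, 3, 7, 2, 5, 4, 1, 0])
    (h := [7, 3, 5, 4])
    (k' := [8, 7, 8, 3, 7, 5, 4, 3, 2, 1, 2, 6, 5, 7, 4, 3, 7, 1, 0, 1, 2, 1, 5, 3, 0, 2, 6, 4, 3, 8, 7, 3, 4, 2, 3,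
    1, 2, 0, 1, 5, 3, 4, 7, 5, 4, 3, 2, 7, 3, 4, 5, 3, 4, 7, 3])
    (h' := [2, 6, 5, 6, 1, 0, 1, 2, 5, 3, 7, 0, 6, 4, 0, 5, 3, 8, 7, 0])
    (p := 5) (by decide +kernel) (by decide +kernel) (by decide +kernel)

theorem good55 : Good [2, 4, 1, 7, 3, 5]
    [3, 4, 2, 0, 6] [7, 3, 2, 1, 5] :=
  good_of_chk
    (k := [4, 3, 0, 7, 5, 6, 1, 2, 3])
    (h := [5, 3, 0, 6, 0, 4])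
    (k' := [6, 7, 3, 7, 2, 3, 7, 4, 3, 2, 1, 2, 0, 3, 2, 1, 5, 4, 7, 0, 3, 2, 3, 7, 4, 3, 1, 2, 0, 1, 3, 5, 6, 4, 3,
    7, 5, 1, 2, 3, 4, 5, 6, 7, 3, 2, 4])
    (h' := [2, 8, 6, 4, 1, 2, 0, 3, 8, 7, 4])
    (p := 5) (by decide +kernel) (by decide +kernel) (by decide +kernel)

theorem good56 : Good [2, 4, 1, 7, 3, 5]
    [8, 0, 2, 4, 6] [1, 5, 7, 3] :=
  good_of_chk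
    (k := [1, 8, 0, 1, 2, 6, 5, 4, 6])
    (h := [1, 8, 1])
    (k' := [2, 8, 7, 3, 7, 5, 4, 3, 7, 6, 2, 3, 4, 5, 6, 4, 3, 2, 7, 3, 4, 5, 0, 8, 7, 3, 4, 2, 3, 8, 4, 2, 7, 5, 6,
    1, 0, 2, 3, 4, 7, 3, 8, 1, 2, 3, 4, 5, 7, 3, 2, 1, 4, 3, 7, 8, 7, 4, 2, 3, 1, 2, 0, 1, 5, 4, 2, 3, 5, 2, 4, 3, 7,
    5, 4, 3, 5, 6, 3, 8, 1, 2, 0, 3, 2, 1, 5, 4, 7, 0, 3, 2, 3, 7, 4, 3, 1, 2, 0, 1, 8, 5, 4, 3, 6, 5, 1, 2, 3, 4, 5,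
    6, 7, 3, 2, 1, 4, 5, 8, 7, 3, 2, 1, 4, 3, 5, 4, 6])
    (h' := [1, 5, 8, 6, 0, 5, 8, 5, 8, 4, 8, 6, 0, 8, 3, 8, 2, 1, 6, 7, 3, 1, 0, 3, 4, 5, 0, 5, 3, 8, 6, 7])
    (p := 5) (by decide +kernel) (by decide +kernel) (by decide +kernel)

theorem good57 : Good [2, 4, 1, 7, 3, 5]
    [4, 0, 3, 6, 8, 4] [5, 7, 3, 2, 1] :=
  good_of_chk
    (k := [6, 4, 3, 4, 8, 5, 1, 0, 2, 1, 3, 2])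
    (h := [7, 5, 8, 2, 4, 8, 1, 0])
    (k' := [2, 4, 3, 7, 6, 2, 3, 4, 5, 6, 4, 3, 2, 7, 3, 4, 5, 8, 7, 3, 2, 3, 8, 7, 4, 3, 8, 1, 2, 0, 3, 2, 1, 5, 4,
    7, 0, 3, 2, 3, 7, 4, 3, 1, 2, 0, 1, 8, 7, 2, 4, 2, 3, 2, 8, 3, 7, 5, 6, 4, 8, 1, 2, 0, 3, 2, 1, 5, 4, 7, 0, 3, 2,
    3, 7, 4, 3, 1, 2, 0, 1, 8, 5, 4, 5, 6, 5, 1, 2, 3, 4, 5, 6, 7, 3, 2, 1, 4, 3, 5, 4, 8, 7, 3, 2, 1, 4, 3, 2, 5, 6])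
    (h' := [8, 0, 1, 5, 6, 5, 6, 0, 4])
    (p := 5) (by decide +kernel) (by decide +kernel) (by decide +kernel)

end Cfsg.Agent.H326.QS.FiRow
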