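import Cfsg.Agent.H326.QS.FiDatA
import Cfsg.Agent.H326.QS.FiDatB
import Cfsg.Agent.H326.QS.FiDatC
import Cfsg.Agent.H326.QS.FiDatD
import Cfsg.Agent.H922.QS.FiMove

/-!
# The row `Fi22` of S2491 (helper326; method and words of helper494, `3.Fi22` of helper922)

`rowN_Fi22` : every noncentral element of every finite perfect central extension of `Fi22` is a commutator.
-/

set_option autoImplicit false
set_option maxRecDepth 1000000
set_option exponentiation.threshold 300000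

namespace Cfsg.Agent.H326.QS.FiRow

open Cfsg Cfsg.Spor Cfsg.Agent.H51.Mult Cfsg.Agent.H6.QO Cfsg.Agent.H777.Ore
open Cfsg.Agent.H123.Cls.FiDat (W el)
open Cfsg.Agent.H922.QS.FiThree (K3 pi3 pce3 card_ker3 wd3 wd3_append pi3_wd3)

/-- the word `c e b h d f` -/
def xw : List ℕ := [2, 4, 1, 7, 3, 5]

/-- an element which commutes with it in `Fi22` -/
def cx : List ℕ := [5, 4, 3, 7, 8, 7, 3, 4, 1, 2, 3, 7, 5, 4, 3, 2, 1, 2, 4, 5, 3, 4, 5, 7, 8, 7, 3, 2, 4, 3, 7, 8,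
  3, 4, 7, 3]

theorem xw_eq : xw.map FiTwo.gn = Cfsg.Agent.H922.QS.FiMove.x1 := rfl

theorem cx_eq : cx.map FiTwo.gn = Cfsg.Agent.H922.QS.FiMove.c1 := rfl

theorem comm_chk : chkE (cx ++ xw) (xw ++ cx) = true := by decide +kernel

theorem pi3_el (w : List ℕ) : pi3 (wd3 (w.map FiTwo.gn)) = el w := by
  rw [pi3_wd3, ← FiTwo.pi2_v2, pi2_v2]

theorem triv : el (cw [0] [0]) = 1 := el_eq_of_chkE (v := []) (by decide +kernel)

theorem good_all : ∀ y ∈ W, el (cw y.2.1 y.2.2.1) ≠ 1 → Good xw y.2.1 y.2.2.1 :=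
  List.forall_mem_cons.2 ⟨fun _ => good0, List.forall_mem_cons.2 ⟨fun _ => good1, 
  List.forall_mem_cons.2 ⟨fun _ => good2, List.forall_mem_cons.2 ⟨fun _ => good3, 
  List.forall_mem_cons.2 ⟨fun _ => good4, List.forall_mem_cons.2 ⟨fun _ => good5, 
  List.forall_mem_cons.2 ⟨fun _ => good6, List.forall_mem_cons.2 ⟨fun _ => good7, 
  List.forall_mem_cons.2 ⟨fun _ => good8, List.forall_mem_cons.2 ⟨fun _ => good9, 
  List.forall_mem_cons.2 ⟨fun _ => good10, List.forall_mem_cons.2 ⟨fun _ => good11, 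
  List.forall_mem_cons.2 ⟨fun _ => good12, List.forall_mem_cons.2 ⟨fun _ => good13, 
  List.forall_mem_cons.2 ⟨fun _ => good14, List.forall_mem_cons.2 ⟨fun _ => good15, 
  List.forall_mem_cons.2 ⟨fun _ => good16, List.forall_mem_cons.2 ⟨fun _ => good17, 
  List.forall_mem_cons.2 ⟨fun _ => good18, List.forall_mem_cons.2 ⟨fun _ => good19, 
  List.forall_mem_cons.2 ⟨fun _ => good20, List.forall_mem_cons.2 ⟨fun _ => good21, 
  List.forall_mem_cons.2 ⟨fun _ => good22, List.forall_mem_cons.2 ⟨fun _ => good23, 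
  List.forall_mem_cons.2 ⟨fun _ => good24, List.forall_mem_cons.2 ⟨fun _ => good25, 
  List.forall_mem_cons.2 ⟨fun _ => good26, List.forall_mem_cons.2 ⟨fun _ => good27, 
  List.forall_mem_cons.2 ⟨fun _ => good28, List.forall_mem_cons.2 ⟨fun _ => good29, 
  List.forall_mem_cons.2 ⟨fun _ => good30, List.forall_mem_cons.2 ⟨fun _ => good31, 
  List.forall_mem_cons.2 ⟨fun _ => good32, List.forall_mem_cons.2 ⟨fun _ => good33, 
  List.forall_mem_cons.2 ⟨fun _ => good34, List.forall_mem_cons.2 ⟨fun _ => good35, 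
  List.forall_mem_cons.2 ⟨fun _ => good36, List.forall_mem_cons.2 ⟨fun _ => good37, 
  List.forall_mem_cons.2 ⟨fun _ => good38, List.forall_mem_cons.2 ⟨fun _ => good39, 
  List.forall_mem_cons.2 ⟨fun _ => good40, List.forall_mem_cons.2 ⟨fun _ => good41, 
  List.forall_mem_cons.2 ⟨fun _ => good42, List.forall_mem_cons.2 ⟨fun _ => good43, 
  List.forall_mem_cons.2 ⟨fun _ => good44, List.forall_mem_cons.2 ⟨fun _ => good45, 
  List.forall_mem_cons.2 ⟨fun _ => good46, List.forall_mem_cons.2 ⟨fun _ => good47, 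
  List.forall_mem_cons.2 ⟨fun _ => good48, List.forall_mem_cons.2 ⟨fun _ => good49, 
  List.forall_mem_cons.2 ⟨fun _ => good50, List.forall_mem_cons.2 ⟨fun _ => good51, 
  List.forall_mem_cons.2 ⟨fun _ => good52, List.forall_mem_cons.2 ⟨fun _ => good53, 
  List.forall_mem_cons.2 ⟨fun _ => good54, List.forall_mem_cons.2 ⟨fun _ => good55, 
  List.forall_mem_cons.2 ⟨fun _ => good56, List.forall_mem_cons.2 ⟨fun _ => good57, 
  List.forall_mem_cons.2 ⟨fun h => absurd triv h, List.forall_mem_nil _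
  ⟩⟩⟩⟩⟩⟩⟩⟩⟩⟩⟩⟩⟩⟩⟩⟩⟩⟩⟩⟩⟩⟩⟩⟩⟩⟩⟩⟩⟩⟩⟩⟩⟩⟩⟩⟩⟩⟩⟩⟩⟩⟩⟩⟩⟩⟩⟩⟩⟩⟩⟩⟩⟩⟩⟩⟩⟩⟩⟩

/-- **the row `Fi22`** -/
theorem rowN_Fi22 : RowN Spor.Fi22 := by
  refine rowN good_all pce3 card_ker3 (c := wd3 Cfsg.Agent.H922.QS.FiMove.c1)
    (y3 := wd3 Cfsg.Agent.H922.QS.FiMove.x1) ?_ ?_ Cfsg.Agent.H922.QS.FiMove.mv1
  · rw [← xw_eq, pi3_el]
  · rw [← wd3_append, ← wd3_append, ← xw_eq, ← cx_eq, ← List.map_append, ← List.map_append, pi3_el, pi3_el]
    exact el_eq_of_chkE comm_chk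

end Cfsg.Agent.H326.QS.FiRow
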