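import Cfsg.Agent.H326.QS.Fuse
import Cfsg.Agent.H6.QO.Frame

/-!
# Commutators in a perfect central extension from two triples (helper326; method of helper494)

`K` has multiplier of order six; `π₂ : K₂ → K` and `π₃ : K₃ → K` are perfect central extensions with kernels of order
two and three; `x` is fused in `K₃`.  If `r = h [x, k] h⁻¹ = h' [x, k'] h'⁻¹` in `K` and the two expressions have
different values in `K₂`, then every element over `r` of every perfect central extension is a commutator.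
-/

set_option autoImplicit false

namespace Cfsg.Agent.H326.QS.FiRed

open Subgroup Cfsg.Agent.H51.Mult Cfsg.Agent.H68.Bounds Cfsg.Agent.H990.TC Cfsg.Agent.H326.QS.Fuse
open Cfsg.Agent.H777.Ore

universe u v w x' u'

/-- two different elements of a group of order two -/
theorem eq_or_eq {K : Type v} [Group K] {K2 : Type w} [Group K2] {π2 : K2 →* K} (h2 : Nat.card π2.ker = 2)
    {s t y : K2} (hst : s ≠ t) (h1 : π2 s = π2 t) (h3 : π2 y = π2 s) : y = s ∨ y = t := by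
  have hs : s⁻¹ * t ∈ π2.ker := by rw [MonoidHom.mem_ker, map_mul, map_inv, h1, inv_mul_cancel]
  have hy : s⁻¹ * y ∈ π2.ker := by rw [MonoidHom.mem_ker, map_mul, map_inv, h3, inv_mul_cancel]
  have hne : s⁻¹ * t ≠ 1 := fun h => hst (inv_mul_eq_one.1 h)
  by_cases h : s⁻¹ * y = 1
  · exact Or.inl (inv_mul_eq_one.1 h).symm
  · right
    obtain ⟨a, b, -, hab⟩ := Nat.card_eq_two_iff.1 h2
    have e : (⟨s⁻¹ * y, hy⟩ : π2.ker) = ⟨s⁻¹ * t, hs⟩ := by
      have u1 : (⟨s⁻¹ * y, hy⟩ : π2.ker) ∈ ({a, b} : Set π2.ker) := hab ▸ Set.mem_univ _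
      have u2 : (⟨s⁻¹ * t, hs⟩ : π2.ker) ∈ ({a, b} : Set π2.ker) := hab ▸ Set.mem_univ _
      have u3 : (1 : π2.ker) ∈ ({a, b} : Set π2.ker) := hab ▸ Set.mem_univ _
      have n1 : (⟨s⁻¹ * y, hy⟩ : π2.ker) ≠ 1 := fun h' => h (congrArg Subtype.val h')
      have n2 : (⟨s⁻¹ * t, hs⟩ : π2.ker) ≠ 1 := fun h' => hne (congrArg Subtype.val h')
      simp only [Set.mem_insert_iff, Set.mem_singleton_iff] at u1 u2 u3
      rcases u1 with h' | h' <;> rcases u2 with h'' | h'' <;> rcases u3 with h3 | h3 <;>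
        first
          | exact h'.trans h''.symm
          | exact absurd (h'.trans h3.symm) n1
          | exact absurd (h''.trans h3.symm) n2
    exact mul_left_cancel (congrArg Subtype.val e)

/-- a central factor is absorbed by a conjugation of `Y` -/
theorem isC_mul_of_conj {L : Type u} [Group L] {Y k h c ζ : L} (hζ : ζ ∈ center L) (hc : c * Y * c⁻¹ = Y * ζ⁻¹) :
    IsC (h * (Y * k * Y⁻¹ * k⁻¹) * h⁻¹ * ζ) := by
  have hz : ∀ g, g * ζ = ζ * g := fun g => mem_center_iff.1 hζ g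
  have h1 : c * Y⁻¹ * c⁻¹ = ζ * Y⁻¹ := by
    calc c * Y⁻¹ * c⁻¹ = (c * Y * c⁻¹)⁻¹ := by group
      _ = ζ * Y⁻¹ := by rw [hc]; group
  have h2 : h * (Y * (k * c) * Y⁻¹ * (k * c)⁻¹) * h⁻¹ = h * (Y * k * Y⁻¹ * k⁻¹) * h⁻¹ * ζ := by
    calc h * (Y * (k * c) * Y⁻¹ * (k * c)⁻¹) * h⁻¹ = h * (Y * k * (c * Y⁻¹ * c⁻¹) * k⁻¹) * h⁻¹ := by group
      _ = h * Y * (k * ζ) * Y⁻¹ * k⁻¹ * h⁻¹ := by rw [h1]; group
      _ = h * Y * (ζ * k) * Y⁻¹ * k⁻¹ * h⁻¹ := by rw [hz k]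
      _ = (h * Y) * ζ * (k * Y⁻¹ * k⁻¹ * h⁻¹) := by group
      _ = ζ * (h * Y) * (k * Y⁻¹ * k⁻¹ * h⁻¹) := by rw [hz (h * Y)]
      _ = ζ * (h * (Y * k * Y⁻¹ * k⁻¹) * h⁻¹) := by group
      _ = _ := (hz _).symm
  rw [← h2]
  exact IsC.conj ⟨Y, k * c, rfl⟩ h

section main

variable {K : Type v} [Group K] {A : Type u'} [CommGroup A]

/-- **two triples** -/
theorem isC_of_triples (hM : Cfsg.HasSchurMultiplier K A) (hA : Nat.card A = 6)
    {K2 : Type w} [Group K2] {π2 : K2 →* K} (h2 : PCE π2) (hc2 : Nat.card π2.ker = 2)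
    {K3 : Type x'} [Group K3] {π3 : K3 →* K} (h3 : PCE π3) (hc3 : Nat.card π3.ker = 3)
    {x y3 : K3} (hx3 : π3 (x * y3) = π3 (y3 * x)) (hne3 : x * y3 ≠ y3 * x)
    {y2 h k h' k' : K2} (hy : π2 y2 = π3 y3)
    (hr : π2 (h * (y2 * k * y2⁻¹ * k⁻¹) * h⁻¹) = π2 (h' * (y2 * k' * y2⁻¹ * k'⁻¹) * h'⁻¹))
    (hne2 : h * (y2 * k * y2⁻¹ * k⁻¹) * h⁻¹ ≠ h' * (y2 * k' * y2⁻¹ * k'⁻¹) * h'⁻¹)
    {L : Type u} [Group L] {π : L →* K} (hπ : PCE π) {g : L}
    (hg : π g = π2 (h * (y2 * k * y2⁻¹ * k⁻¹) * h⁻¹)) : IsC g := by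
  obtain ⟨D, _, f, e, hf, he, hfe, hD, -⟩ := exists_common h2 h3
  obtain ⟨E, _, a, b, ha, hb, hab, hE, -⟩ := exists_common hD hπ
  -- the three maps
  set τ : E →* K := (π2.comp f).comp a with hτ
  have t2 : ∀ z, π2 (f (a z)) = τ z := fun _ => rfl
  have t3 : ∀ z, π3 (e (a z)) = τ z := fun z => (DFunLike.congr_fun hfe (a z)).symm
  have tb : ∀ z, π (b z) = τ z := fun z => (DFunLike.congr_fun hab z).symm
  have s2 : Function.Surjective (f.comp a) := hf.surj.comp ha.surj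
  have s3 : Function.Surjective (e.comp a) := he.surj.comp ha.surj
  -- orders
  have c1 : Nat.card τ.ker ∣ 6 := by rw [← hA]; exact card_ker_dvd hM hE
  have c2 : Nat.card τ.ker = 2 * Nat.card (f.comp a).ker := by
    have h5 := card_ker_comp (ρ := π2) s2
    rw [hc2] at h5
    exact h5
  have c3 : Nat.card (f.comp a).ker ∣ 3 := by
    rw [c2] at c1
    exact Nat.dvd_of_mul_dvd_mul_left (by norm_num : 0 < 2) c1
  have hfinτ : Finite τ.ker := Nat.finite_of_card_ne_zero fun h => by rw [h] at c1; omega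
  -- lifts
  obtain ⟨Y, hY⟩ := s2 y2
  obtain ⟨H, hH⟩ := s2 h
  obtain ⟨H', hH'⟩ := s2 h'
  obtain ⟨X, hX⟩ := s2 k
  obtain ⟨X', hX'⟩ := s2 k'
  obtain ⟨G, rfl⟩ := hb.surj g
  have v1 : (f.comp a) (H * (Y * X * Y⁻¹ * X⁻¹) * H⁻¹) = h * (y2 * k * y2⁻¹ * k⁻¹) * h⁻¹ := by
    simp only [map_mul, map_inv, hY, hH, hX]
  have v2 : (f.comp a) (H' * (Y * X' * Y⁻¹ * X'⁻¹) * H'⁻¹) = h' * (y2 * k' * y2⁻¹ * k'⁻¹) * h'⁻¹ := by
    simp only [map_mul, map_inv, hY, hH', hX']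
  have hG : π2 ((f.comp a) G) = π2 (h * (y2 * k * y2⁻¹ * k⁻¹) * h⁻¹) := by
    rw [← hg, tb]
    rfl
  -- the fused elements
  have hS3 : Sf π3 h3.cen ((e.comp a) Y) = π3.ker := by
    refine Sf_eq_ker_of (y := y3) (Sf_eq_of_prime Nat.prime_three hc3 hx3 hne3) ?_
    rw [← hy, ← hY]
    exact ((t3 Y).trans (t2 Y).symm).symm
  have hS : 3 ∣ Nat.card ↥(Sf τ hE.cen Y) := by
    rw [← hc3]
    exact card_dvd_Sf (hcD := hE.cen) (hc := h3.cen) s3 (fun z => t3 z) hS3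
  have hle : (f.comp a).ker ≤ Sf τ hE.cen Y := by
    have hfinS : Finite ↥(Sf τ hE.cen Y) := Finite.Set.subset (τ.ker : Set E) (Sf_le Y)
    have : Fact (Nat.Prime 3) := ⟨Nat.prime_three⟩
    obtain ⟨z, hz⟩ := exists_prime_orderOf_dvd_card' 3 hS
    have hz3 : orderOf (z : E) = 3 := by rw [← hz]; exact orderOf_submonoid z
    -- `z` lies in the kernel of `f ∘ a`
    have hz1 : (z : E) ∈ (f.comp a).ker := by
      rw [MonoidHom.mem_ker, ← orderOf_eq_one_iff]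
      have d1 : orderOf ((f.comp a) (z : E)) ∣ 3 := by rw [← hz3]; exact orderOf_map_dvd _ _
      have hm : (f.comp a) (z : E) ∈ π2.ker := z.2.1
      have d2 : orderOf ((f.comp a) (z : E)) ∣ 2 := by
        have h6 : orderOf (⟨(f.comp a) (z : E), hm⟩ : π2.ker) ∣ Nat.card π2.ker := orderOf_dvd_natCard _
        rw [hc2] at h6
        rwa [Subgroup.orderOf_mk] at h6
      have h7 := Nat.dvd_gcd d1 d2
      exact Nat.dvd_one.1 (by simpa using h7)
    have hcard : Nat.card ↥(zpowers (z : E)) = 3 := by rw [Nat.card_zpowers, hz3]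
    have hle1 : zpowers (z : E) ≤ (f.comp a).ker := by rw [zpowers_le]; exact hz1
    have hfin2 : Finite ↥(f.comp a).ker := Nat.finite_of_card_ne_zero fun h => by rw [h] at c3; omega
    have heq : zpowers (z : E) = (f.comp a).ker :=
      Subgroup.eq_of_le_of_card_ge hle1 (by rw [hcard]; exact Nat.le_of_dvd (by norm_num) c3)
    rw [← heq, zpowers_le]
    exact z.2
  -- the end
  have fin : ∀ H X : E, (f.comp a) G = (f.comp a) (H * (Y * X * Y⁻¹ * X⁻¹) * H⁻¹) → IsC G := by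
    intro H X hGX
    set B := H * (Y * X * Y⁻¹ * X⁻¹) * H⁻¹ with hB
    have hu : B⁻¹ * G ∈ (f.comp a).ker := by
      rw [MonoidHom.mem_ker, map_mul, map_inv, hGX, inv_mul_cancel]
    obtain ⟨-, c, hc⟩ := inv_mem (hle hu)
    have hcen : B⁻¹ * G ∈ center E := hE.cen (hle hu).1
    have h8 := isC_mul_of_conj (h := H) (k := X) hcen hc
    rw [← hB, mul_inv_cancel_left] at h8
    exact h8
  have hGC : IsC G := by
    rcases eq_or_eq hc2 hne2 hr hG with h9 | h9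
    · exact fin H X (by rw [h9, v1])
    · exact fin H' X' (by rw [h9, v2])
  exact hGC.map b

end main

end Cfsg.Agent.H326.QS.FiRed
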