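import Cfsg.Agent.H326.QS.FiTwo

/-!
# `2.Fi22`: words with letters `0 … 8`, the test for two words to differ (helper326)

* `x_mul_self`, `wd2_reverse`;
* `gn : ℕ → Fi22.Gen` (`0 … 8` = `a … i`), `v2 (w : List ℕ) : K2`, `pi2_v2`, `v2_append`, `v2_reverse`;
* `v2_ne : chk2 u v p = true → v2 u ≠ v2 v` : the two words move one point of the action of degree 31671 differently;
* `z2_unique` : if two elements have the same image in `Fi22` and a third as well, two of the three are equal.
-/

set_option autoImplicit false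
set_option maxRecDepth 100000

namespace Cfsg.Agent.H326.QS.FiTwo

open Cfsg Cfsg.Spor Cfsg.Agent.Lib.PermNet Cfsg.Agent.Lib.PermNetOrbit Cfsg.Agent.Fischer
open Cfsg.Agent.H51.Mult

theorem x_mul_self (p : Fi22.Gen) : Fi23Double.x p * Fi23Double.x p = 1 := by
  have h := Fi23Double.hyp.cox p p
  have h1 : coxLabel Fi22.edges p p = 1 := by cases p <;> decide
  rw [h1, pow_one] at h
  exact h

theorem wd2_reverse (w : List Fi22.Gen) : wd2 w.reverse = (wd2 w)⁻¹ := by
  unfold wd2
  induction w with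
  | nil => simp
  | cons y w ih =>
    rw [List.reverse_cons, List.map_append, List.prod_append, ih, List.map_cons, List.map_nil, List.prod_cons,
      List.prod_nil, mul_one, List.map_cons, List.prod_cons, mul_inv_rev, inv_eq_of_mul_eq_one_left (x_mul_self y)]

/-- the letters `0 … 8` -/
def gn : ℕ → Fi22.Gen
  | 0 => .a
  | 1 => .b
  | 2 => .c
  | 3 => .d
  | 4 => .e
  | 5 => .f
  | 6 => .g
  | 7 => .h
  | _ => .i

/-- the value of a word with letters `0 … 8` -/
noncomputable def v2 (w : List ℕ) : K2 := wd2 (w.map gn)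

theorem v2_nil : v2 [] = 1 := rfl

theorem v2_append (u v : List ℕ) : v2 (u ++ v) = v2 u * v2 v := by
  unfold v2
  rw [List.map_append, wd2_append]

theorem v2_cons (k : ℕ) (v : List ℕ) : v2 (k :: v) = Fi23Double.x (gn k) * v2 v := by
  unfold v2 wd2
  rw [List.map_cons, List.map_cons, List.prod_cons]

theorem v2_reverse (u : List ℕ) : v2 u.reverse = (v2 u)⁻¹ := by
  unfold v2
  rw [List.map_reverse, wd2_reverse]

theorem pi2_v2 (w : List ℕ) : pi2 (v2 w) = Fi22PtsRep.wd (w.map gn) := pi2_wd2 _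

/-- the network of a letter -/
noncomputable def ln (k : ℕ) : Net := Fi23Rel.net (Fi23Double.emb (gn k))

/-- the image of a point -/
noncomputable def im2 (w : List ℕ) (p : ℕ) : ℕ := ptWord (w.map ln) p

theorem im2_eq (w : List ℕ) (p : ℕ) :
    im2 w p = (Fi23Hom.rho (((v2 w : K2) : Spor.Fi23))) p := by
  have h : w.map ln = nw2 (w.map gn) := by
    unfold nw2
    rw [List.map_map, List.map_map]
    rfl
  unfold im2 v2
  rw [h, coe_wd2, Fi23Orb.rho_word]
  unfold nw2
  rw [ptWord_eq (Fi23Rel.wok _)]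

/-- the test -/
noncomputable def chk2 (u v : List ℕ) (p : ℕ) : Bool :=
  Bool.rec true false (Nat.beq (im2 u p) (im2 v p))

theorem v2_ne {u v : List ℕ} {p : ℕ} (h : chk2 u v p = true) : v2 u ≠ v2 v := by
  intro h1
  have h2 : im2 u p = im2 v p := by rw [im2_eq, im2_eq, h1]
  unfold chk2 at h
  rw [h2, Nat.beq_refl] at h
  exact absurd h (by simp)

/-- two elements over the same element which differ from each other: every third element is one of them -/
theorem eq_or_eq {s t y : K2} (hst : s ≠ t) (h1 : pi2 s = pi2 t) (h2 : pi2 y = pi2 s) : y = s ∨ y = t := by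
  have hs : s⁻¹ * t ∈ pi2.ker := by rw [MonoidHom.mem_ker, map_mul, map_inv, h1, inv_mul_cancel]
  have hy : s⁻¹ * y ∈ pi2.ker := by rw [MonoidHom.mem_ker, map_mul, map_inv, h2, inv_mul_cancel]
  have hne : s⁻¹ * t ≠ 1 := fun h => hst (inv_mul_eq_one.1 h)
  by_cases h : s⁻¹ * y = 1
  · exact Or.inl (inv_mul_eq_one.1 h).symm
  · right
    have hc : Nat.card pi2.ker = 2 := card_ker2
    obtain ⟨a, b, -, hab⟩ := Nat.card_eq_two_iff.1 hc
    have e : (⟨s⁻¹ * y, hy⟩ : pi2.ker) = ⟨s⁻¹ * t, hs⟩ := by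
      have u1 : (⟨s⁻¹ * y, hy⟩ : pi2.ker) ∈ ({a, b} : Set pi2.ker) := hab ▸ Set.mem_univ _
      have u2 : (⟨s⁻¹ * t, hs⟩ : pi2.ker) ∈ ({a, b} : Set pi2.ker) := hab ▸ Set.mem_univ _
      have u3 : (1 : pi2.ker) ∈ ({a, b} : Set pi2.ker) := hab ▸ Set.mem_univ _
      have n1 : (⟨s⁻¹ * y, hy⟩ : pi2.ker) ≠ 1 := fun h' => h (congrArg Subtype.val h')
      have n2 : (⟨s⁻¹ * t, hs⟩ : pi2.ker) ≠ 1 := fun h' => hne (congrArg Subtype.val h')
      simp only [Set.mem_insert_iff, Set.mem_singleton_iff] at u1 u2 u3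
      rcases u1 with h' | h' <;> rcases u2 with h'' | h'' <;> rcases u3 with h3 | h3 <;>
        first
          | exact h'.trans h''.symm
          | exact absurd (h'.trans h3.symm) n1
          | exact absurd (h''.trans h3.symm) n2
    have e1 : s⁻¹ * y = s⁻¹ * t := congrArg Subtype.val e
    exact mul_left_cancel e1

end Cfsg.Agent.H326.QS.FiTwo
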