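import Cfsg.Agent.H326.QS.FiRed
import Cfsg.Agent.H326.QS.FiTwoTest
import Cfsg.Agent.H123.Cls.FiOre
import Cfsg.Agent.S2053

/-!
# The frame of the row `Fi22` of S2491 (helper326; method and words of helper494)

* `chkW x0 y t p` : the kernel check of one class: `y` a line of `W`, `t = (k, h, k', h')`;
* `RowN_of` : the row from the checks and from one pair of words which do not commute in `3.Fi22`.
-/

set_option autoImplicit false
set_option maxRecDepth 1000000
set_option exponentiation.threshold 300000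

namespace Cfsg.Agent.H326.QS.FiRow

open Cfsg Cfsg.Spor Cfsg.Agent.H51.Mult Cfsg.Agent.H6.QO Cfsg.Agent.H777.Ore
open Cfsg.Agent.H123.Cls (band band_true chkL chkL_iff)
open Cfsg.Agent.H123.Cls.FiDat (W el el_append el_reverse words_cover gn_S)
open Cfsg.Agent.H494.F22 (chkRel rel wS rho rho_injective)
open Cfsg.Agent.H326.QS.FiTwo (K2 pi2 pce2 card_ker2 v2 v2_append v2_reverse chk2 v2_ne)

/-- the word of `h [x, k] h⁻¹` -/
def tw (x k h : List ℕ) : List ℕ := h ++ (x ++ k ++ x.reverse ++ k.reverse) ++ h.reverse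

/-- the word of `[a, b]` -/
def cw (a b : List ℕ) : List ℕ := a ++ b ++ a.reverse ++ b.reverse

theorem el_cw (a b : List ℕ) : el (cw a b) = el a * el b * (el a)⁻¹ * (el b)⁻¹ := by
  simp only [cw, el_append, el_reverse]

theorem v2_tw (x k h : List ℕ) :
    v2 (tw x k h) = v2 h * (v2 x * v2 k * (v2 x)⁻¹ * (v2 k)⁻¹) * (v2 h)⁻¹ := by
  simp only [tw, v2_append, v2_reverse]

/-- the values of words in `Fi22` -/
theorem gn_eq (n : ℕ) : FiTwo.gn n = Cfsg.Agent.H123.Cls.FiDat.gn n := by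
  rcases n with _ | _ | _ | _ | _ | _ | _ | _ | n <;> rfl

theorem pi2_v2 (w : List ℕ) : pi2 (v2 w) = el w := by
  rw [FiTwo.pi2_v2]
  unfold Cfsg.Agent.Fischer.Fi22PtsRep.wd el
  rw [List.map_map]
  congr 1

theorem rho_el : ∀ {l : List ℕ}, (∀ x ∈ l, x < 9) → rho (el l) = wS l
  | [], _ => by
    show rho 1 = 1
    exact map_one _
  | x :: l, h => by
    rw [Cfsg.Agent.H123.Cls.FiDat.el_cons, map_mul, gn_S (h x List.mem_cons_self),
      rho_el fun y hy => h y (List.mem_cons_of_mem _ hy), Cfsg.Agent.H494.F22.wS_cons]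

/-- **two words are equal in `Fi22`** -/
theorem el_eq_of_chk {u v : List ℕ} (hu : chkL 9 u = true) (hv : chkL 9 v = true) (h : chkRel (u, v) = true) :
    el u = el v := by
  apply rho_injective
  rw [rho_el (chkL_iff _ u hu), rho_el (chkL_iff _ v hv)]
  exact rel (fun x hx => (chkL_iff _ u hu x hx).trans (by norm_num))
    (fun x hx => (chkL_iff _ v hv x hx).trans (by norm_num)) h

/-- the check of one word: `u = v` in `Fi22` -/
noncomputable def chkE (u v : List ℕ) : Bool := band (chkL 9 u) (band (chkL 9 v) (chkRel (u, v)))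

theorem el_eq_of_chkE {u v : List ℕ} (h : chkE u v = true) : el u = el v := by
  obtain ⟨h1, h2⟩ := band_true h
  obtain ⟨h3, h4⟩ := band_true h2
  exact el_eq_of_chk h1 h3 h4

/-- the check of one class: `(a, b)` the commutator, `(k, h, k', h', p)` the data -/
def Good (x a b : List ℕ) : Prop := ∃ k h k' h' : List ℕ, el (tw x k h) = el (cw a b) ∧
  el (tw x k' h') = el (cw a b) ∧ v2 (tw x k h) ≠ v2 (tw x k' h')

theorem good_of_chk {x a b k h k' h' : List ℕ} {p : ℕ} (h1 : chkE (tw x k h) (cw a b) = true)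
    (h2 : chkE (tw x k' h') (cw a b) = true) (h3 : chk2 (tw x k h) (tw x k' h') p = true) : Good x a b :=
  ⟨k, h, k', h', el_eq_of_chkE h1, el_eq_of_chkE h2, v2_ne h3⟩

theorem card6 : Nat.card (Multiplicative (ZMod 6)) = 6 := by
  rw [Nat.card_eq_fintype_card]
  rfl

/-- **the row** -/
theorem rowN {x : List ℕ} (hx : ∀ y ∈ W, el (cw y.2.1 y.2.2.1) ≠ 1 → Good x y.2.1 y.2.2.1)
    {K3 : Type} [Group K3] {π3 : K3 →* Spor.Fi22} (h3 : PCE π3) (hc3 : Nat.card π3.ker = 3)
    {c y3 : K3} (hy3 : π3 y3 = el x) (hcy : π3 (c * y3) = π3 (y3 * c)) (hne3 : c * y3 ≠ y3 * c) :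
    RowN Spor.Fi22 := by
  intro L _ _ π hπ g hg
  obtain ⟨y, hy, θ, hθ⟩ := words_cover (π g)
  rw [← el_cw] at hθ
  -- the twisted projection
  have hπ' : PCE ((θ.symm : Spor.Fi22 ≃* Spor.Fi22).toMonoidHom.comp π) := hπ.congr θ.symm
  have hg' : ((θ.symm : Spor.Fi22 ≃* Spor.Fi22).toMonoidHom.comp π) g = el (cw y.2.1 y.2.2.1) := by
    show θ.symm (π g) = _
    rw [hθ, MulEquiv.symm_apply_apply]
  have hne : el (cw y.2.1 y.2.2.1) ≠ 1 := by
    intro h1
    rw [h1, map_one] at hθ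
    exact hg (hπ.cen (MonoidHom.mem_ker.2 hθ))
  obtain ⟨k, h, k', h', e1, e2, e3⟩ := hx y hy hne
  refine FiRed.isC_of_triples (A := Multiplicative (ZMod 6)) Cfsg.Agent.S2053.result card6 pce2 card_ker2 h3 hc3 (x := c)
    (y3 := y3) hcy hne3 (y2 := v2 x) (h := v2 h) (k := v2 k) (h' := v2 h') (k' := v2 k') ?_ ?_ ?_ hπ' (g := g) ?_
  · rw [hy3, pi2_v2]
  · rw [← v2_tw, ← v2_tw, pi2_v2, pi2_v2, e1, e2]
  · rw [← v2_tw, ← v2_tw]
    exact e3
  · rw [hg', ← v2_tw, pi2_v2, e1]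

end Cfsg.Agent.H326.QS.FiRow
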