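import Cfsg.Agent.Fischer.Fi23Double
import Cfsg.Agent.Fischer.Fi22PtsRep
import Cfsg.Agent.S1696
import Cfsg.Agent.H51.Mult

/-!
# The double cover `2.Fi22` as the subgroup `⟨a, …, i⟩` of the presented `Fi23`: words (helper326)

* `pi2 : K2 →* Fi22`, `pi2 (x p) = of p`, `pce2`, `card_ker2`;
* `wd2 w` : the value of a word; `pi2_wd2`; `wd2_ne` : a word which moves a point of the action of degree 31671;
* `comm_ne` : two words which do not commute.
-/

set_option autoImplicit false
set_option maxRecDepth 100000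

namespace Cfsg.Agent.H326.QS.FiTwo

open Cfsg Cfsg.Spor Cfsg.Agent.Lib.PermNet Cfsg.Agent.Lib.PermNetOrbit Cfsg.Agent.Fischer
open Cfsg.Agent.H51.Mult

/-- `2.Fi22` -/
abbrev K2 : Type := ↥Fi23Double.K

theorem simple22 : IsSimpleGroup Spor.Fi22 := Cfsg.Agent.S1696.result.1

/-- the isomorphism of `Fi22` with `K2 / Z(K2)` -/
noncomputable def eq2 : Spor.Fi22 ≃* K2 ⧸ Subgroup.center K2 :=
  DoubleFi22.thetaEquiv (Subgroup.center K2) Fi23Double.hyp (DoubleFi22.z_mem_center Fi23Double.hyp) simple22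
    (DoubleFi22.center_ne_top Fi23Double.hyp)

/-- the homomorphism onto `Fi22` -/
noncomputable def pi2 : K2 →* Spor.Fi22 := eq2.symm.toMonoidHom.comp (QuotientGroup.mk' (Subgroup.center K2))

theorem pi2_x (p : Fi22.Gen) : pi2 (Fi23Double.x p) = Fi22PtsRep.gen p := by
  show eq2.symm (QuotientGroup.mk' (Subgroup.center K2) (Fi23Double.x p)) = Fi22PtsRep.gen p
  rw [MulEquiv.symm_apply_eq]
  exact (DoubleFi22.theta_of (Subgroup.center K2) Fi23Double.hyp (DoubleFi22.z_mem_center Fi23Double.hyp) p).symm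

theorem ker2 : pi2.ker = Subgroup.center K2 := by
  ext y
  rw [MonoidHom.mem_ker]
  show eq2.symm (QuotientGroup.mk' (Subgroup.center K2) y) = 1 ↔ _
  rw [map_eq_one_iff eq2.symm eq2.symm.injective]
  exact QuotientGroup.eq_one_iff y

theorem surj2 : Function.Surjective pi2 := eq2.symm.surjective.comp (QuotientGroup.mk'_surjective _)

theorem pce2 : PCE pi2 := ⟨surj2, ker2.le, DoubleFi22.commutator_eq_top Fi23Double.hyp⟩

theorem card_ker2 : Nat.card pi2.ker = 2 := by
  rw [ker2]
  exact DoubleFi22.card_center Fi23Double.hyp simple22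

/-- the value of a word in `2.Fi22` -/
noncomputable def wd2 (w : List Fi22.Gen) : K2 := (w.map Fi23Double.x).prod

theorem wd2_nil : wd2 [] = 1 := rfl

theorem wd2_append (v w : List Fi22.Gen) : wd2 (v ++ w) = wd2 v * wd2 w := by simp [wd2]

theorem pi2_wd2 (w : List Fi22.Gen) : pi2 (wd2 w) = Fi22PtsRep.wd w := by
  unfold wd2
  induction w with
  | nil => rw [List.map_nil, List.prod_nil, map_one, Fi22PtsRep.wd_nil]
  | cons y w ih => rw [List.map_cons, List.prod_cons, map_mul, ih, pi2_x, Fi22PtsRep.wd_cons]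

theorem coe_wd2 (w : List Fi22.Gen) : ((wd2 w : K2) : Spor.Fi23) = Fi23Orb.word (w.map Fi23Double.emb) := by
  unfold wd2 Fi23Orb.word
  induction w with
  | nil => rfl
  | cons y w ih =>
    rw [List.map_cons, List.prod_cons, Subgroup.coe_mul, ih, List.map_cons, List.map_cons, List.prod_cons]
    rfl

/-- the word of networks of degree 31671 -/
noncomputable def nw2 (w : List Fi22.Gen) : List Net := (w.map Fi23Double.emb).map Fi23Rel.net

/-- a word which moves a point -/
theorem wd2_ne {w : List Fi22.Gen} {p : ℕ} (h : Nat.beq (ptWord (nw2 w) p) p = false) : wd2 w ≠ 1 := by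
  intro h1
  have h2 : Fi23Hom.rho (Fi23Orb.word (w.map Fi23Double.emb)) = 1 := by
    rw [← coe_wd2, h1]
    exact map_one _
  rw [Fi23Orb.rho_word] at h2
  have h3 : ptWord (nw2 w) p = p := by
    unfold nw2
    rw [ptWord_eq (Fi23Rel.wok _), h2]
    rfl
  rw [h3, Nat.beq_refl] at h
  exact absurd h (by simp)

/-- two words which do not commute -/
theorem comm_ne {u v : List Fi22.Gen} {p : ℕ} (h : Nat.beq (ptWord (nw2 (u ++ v)) p) (ptWord (nw2 (v ++ u)) p) = false) :
    wd2 u * wd2 v ≠ wd2 v * wd2 u := by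
  intro h1
  rw [← wd2_append, ← wd2_append] at h1
  have h2 : Fi23Hom.rho (Fi23Orb.word ((u ++ v).map Fi23Double.emb)) =
      Fi23Hom.rho (Fi23Orb.word ((v ++ u).map Fi23Double.emb)) := by
    rw [← coe_wd2, ← coe_wd2, h1]
  rw [Fi23Orb.rho_word, Fi23Orb.rho_word] at h2
  have h3 : ptWord (nw2 (u ++ v)) p = ptWord (nw2 (v ++ u)) p := by
    unfold nw2
    rw [ptWord_eq (Fi23Rel.wok _), ptWord_eq (Fi23Rel.wok _), h2]
  rw [h3, Nat.beq_refl] at h
  exact absurd h (by simp)

end Cfsg.Agent.H326.QS.FiTwo
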