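import Cfsg.Agent.H990.TC.Univ

/-!
# Fused elements of perfect central extensions (helper326)

`Sf π hc y` : the central elements `z ∈ ker π` with `y z` conjugate to `y`.

* `Sf_eq_of_prime` : `|ker π| = p` and a lift of an element of `C(π y)` which does not commute with `y`;
* `fuse` : two perfect central extensions of `K` with coprime kernels whose orders have product `|M(K)|`: if `x` is
  fused in both, then `x` is fused in every perfect central extension.
* `fuse_one` : the same with one perfect central extension, `|ker| = |M(K)|`.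
-/

set_option autoImplicit false

namespace Cfsg.Agent.H326.QS.Fuse

open Subgroup Cfsg.Agent.H51.Mult Cfsg.Agent.H68.Bounds Cfsg.Agent.H990.TC

universe u v w x' u'

section basic

variable {L : Type u} {K : Type v} [Group L] [Group K]

/-- the central elements `z` with `y ~ y z` -/
def Sf (π : L →* K) (hc : π.ker ≤ center L) (y : L) : Subgroup L where
  carrier := {z | π z = 1 ∧ ∃ c, c * y * c⁻¹ = y * z}
  one_mem' := ⟨map_one _, 1, by simp⟩
  mul_mem' := by
    rintro z w ⟨hz, c, hc1⟩ ⟨hw, d, hd⟩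
    refine ⟨by rw [map_mul, hz, hw, mul_one], c * d, ?_⟩
    have h1 : w * c⁻¹ = c⁻¹ * w := (mem_center_iff.1 (hc hw) c⁻¹).symm
    calc c * d * y * (c * d)⁻¹ = c * (d * y * d⁻¹) * c⁻¹ := by group
      _ = c * (y * w) * c⁻¹ := by rw [hd]
      _ = c * y * (w * c⁻¹) := by group
      _ = (c * y * c⁻¹) * w := by rw [h1]; group
      _ = y * (z * w) := by rw [hc1, mul_assoc]
  inv_mem' := by
    rintro z ⟨hz, c, hc1⟩
    refine ⟨by rw [map_inv, hz, inv_one], c⁻¹, ?_⟩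
    have h1 : z * c = c * z := (mem_center_iff.1 (hc hz) c).symm
    have h2 : y = c * y * c⁻¹ * z⁻¹ := by rw [hc1, mul_inv_cancel_right]
    have h3 : z⁻¹ * c = c * z⁻¹ := by
      rw [inv_mul_eq_iff_eq_mul, ← mul_assoc, h1, mul_inv_cancel_right]
    calc c⁻¹ * y * c⁻¹⁻¹ = c⁻¹ * (c * y * c⁻¹ * z⁻¹) * c := by rw [← h2, inv_inv]
      _ = y * c⁻¹ * (z⁻¹ * c) := by group
      _ = y * z⁻¹ := by rw [h3]; group

variable {π : L →* K} {hc : π.ker ≤ center L}

theorem mem_Sf {y z : L} : z ∈ Sf π hc y ↔ π z = 1 ∧ ∃ c, c * y * c⁻¹ = y * z := Iff.rfl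

theorem Sf_le (y : L) : Sf π hc y ≤ π.ker := fun _ h => h.1

/-- the lift does not matter -/
theorem Sf_mul {y ζ : L} (hζ : π ζ = 1) : Sf π hc y ≤ Sf π hc (y * ζ) := by
  rintro z ⟨hz, c, h⟩
  refine ⟨hz, c, ?_⟩
  have h1 : ζ * c⁻¹ = c⁻¹ * ζ := (mem_center_iff.1 (hc hζ) c⁻¹).symm
  have h2 : z * ζ = ζ * z := mem_center_iff.1 (hc hζ) z
  calc c * (y * ζ) * c⁻¹ = c * y * (ζ * c⁻¹) := by group
    _ = (c * y * c⁻¹) * ζ := by rw [h1]; group
    _ = y * ζ * z := by rw [h, mul_assoc, h2, mul_assoc]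

theorem Sf_eq_ker_of {y y' : L} (h : Sf π hc y = π.ker) (hy : π y = π y') : Sf π hc y' = π.ker := by
  refine le_antisymm (Sf_le _) ?_
  have e : y' = y * (y⁻¹ * y') := by group
  rw [e, ← h]
  exact Sf_mul (by rw [map_mul, map_inv, hy, inv_mul_cancel])

/-- kernel of prime order: one pair of elements which do not commute -/
theorem Sf_eq_of_prime {p : ℕ} (hp : p.Prime) (hcard : Nat.card π.ker = p) {y c : L}
    (hcy : π (c * y) = π (y * c)) (hne : c * y ≠ y * c) : Sf π hc y = π.ker := by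
  have hz : y⁻¹ * (c * y * c⁻¹) ∈ Sf π hc y := by
    refine ⟨?_, c, by group⟩
    rw [map_mul, map_mul, hcy, map_mul, map_inv, map_inv, mul_inv_cancel_right, inv_mul_cancel]
  have hz1 : y⁻¹ * (c * y * c⁻¹) ≠ 1 := by
    intro h
    apply hne
    rw [inv_mul_eq_one] at h
    exact (mul_inv_eq_iff_eq_mul.1 h.symm)
  have hfin : Finite π.ker := Nat.finite_of_card_ne_zero (by rw [hcard]; exact hp.ne_zero)
  have h1 : Nat.card ↥(Sf π hc y) ∣ p := by rw [← hcard]; exact Subgroup.card_dvd_of_le (Sf_le y)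
  rcases (Nat.dvd_prime hp).1 h1 with h2 | h2
  · have hfin' : Finite ↥(Sf π hc y) := Nat.finite_of_card_ne_zero (by rw [h2]; norm_num)
    rw [Subgroup.card_eq_one] at h2
    rw [h2, mem_bot] at hz
    exact absurd hz hz1
  · exact Subgroup.eq_of_le_of_card_ge (Sf_le y) (by rw [h2, hcard])

end basic

section maps

variable {D : Type w} {L : Type u} {K : Type v} [Group D] [Group L] [Group K] {δ : D →* K} {π : L →* K}
  {hcD : δ.ker ≤ center D} {hc : π.ker ≤ center L}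

theorem Sf_map {f : D →* L} (hf : ∀ d, π (f d) = δ d) {y z : D} (h : z ∈ Sf δ hcD y) : f z ∈ Sf π hc (f y) := by
  obtain ⟨hz, c, h1⟩ := h
  refine ⟨by rw [hf, hz], f c, ?_⟩
  rw [← map_mul f y z, ← h1, map_mul, map_mul, map_inv]

theorem Sf_lift {f : D →* L} (hs : Function.Surjective f) (hf : ∀ d, π (f d) = δ d) {y : D} {w : L}
    (h : w ∈ Sf π hc (f y)) : ∃ z ∈ Sf δ hcD y, f z = w := by
  obtain ⟨hw, c, h1⟩ := h
  obtain ⟨d, rfl⟩ := hs c
  have e : f (y⁻¹ * (d * y * d⁻¹)) = w := by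
    rw [map_mul, map_mul, map_mul, map_inv, map_inv, h1, inv_mul_cancel_left]
  refine ⟨y⁻¹ * (d * y * d⁻¹), ⟨?_, d, by group⟩, e⟩
  rw [← hf, e, hw]

theorem card_dvd_Sf {f : D →* L} (hs : Function.Surjective f) (hf : ∀ d, π (f d) = δ d) {y : D}
    (h : Sf π hc (f y) = π.ker) : Nat.card π.ker ∣ Nat.card ↥(Sf δ hcD y) := by
  rw [← h]
  let g : ↥(Sf δ hcD y) →* ↥(Sf π hc (f y)) :=
    (f.comp (Sf δ hcD y).subtype).codRestrict (Sf π hc (f y)) fun z => Sf_map hf z.2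
  refine Subgroup.card_dvd_of_surjective g ?_
  rintro ⟨w, hw⟩
  obtain ⟨z, hz, hzw⟩ := Sf_lift (hcD := hcD) hs hf hw
  exact ⟨⟨z, hz⟩, Subtype.ext hzw⟩

end maps

section main

variable {K : Type v} [Group K] {A : Type u'} [CommGroup A]

/-- **One universal cover.** -/
theorem fuse_one (hM : Cfsg.HasSchurMultiplier K A) {Γ : Type w} [Group Γ] {σ : Γ →* K} (hσ : PCE σ)
    (hcard : Nat.card σ.ker = Nat.card A) {k : K} (hx : ∀ y, σ y = k → Sf σ hσ.cen y = σ.ker)
    {L : Type u} [Group L] {π : L →* K} (hπ : PCE π) {y : L} (hy : π y = k) : Sf π hπ.cen y = π.ker := by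
  have hA : Finite A := Cfsg.Agent.H487.finite_multiplier hM
  obtain ⟨D, _, f, g, hf, hg, hfg, hD, -⟩ := exists_common hσ hπ
  obtain ⟨d, rfl⟩ := hg.surj y
  have hfg' : ∀ d, σ (f d) = (σ.comp f) d := fun _ => rfl
  have hfg2 : ∀ d, π (g d) = (σ.comp f) d := fun d => (DFunLike.congr_fun hfg d).symm
  have h1 : Nat.card (σ.comp f).ker ∣ Nat.card A := card_ker_dvd hM hD
  have h2 : Nat.card σ.ker ∣ Nat.card ↥(Sf (σ.comp f) hD.cen d) :=
    card_dvd_Sf hf.surj hfg' (hx _ ((hfg' d).trans ((hfg2 d).symm.trans hy)))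
  have h3 : Sf (σ.comp f) hD.cen d = (σ.comp f).ker := by
    have hfin : Finite (σ.comp f).ker :=
      Nat.finite_of_card_ne_zero fun h => by rw [h] at h1; exact Nat.card_pos.ne' (Nat.eq_zero_of_zero_dvd h1)
    refine Subgroup.eq_of_le_of_card_ge (Sf_le d) ?_
    refine (Nat.le_of_dvd Nat.card_pos h1).trans ?_
    rw [← hcard]
    have hfin' : Finite ↥(Sf (σ.comp f) hD.cen d) := Finite.Set.subset ((σ.comp f).ker : Set D) (Sf_le d)
    exact Nat.le_of_dvd Nat.card_pos h2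
  refine le_antisymm (Sf_le _) fun z hz => ?_
  obtain ⟨e, rfl⟩ := hg.surj z
  have h4 : e ∈ Sf (σ.comp f) hD.cen d := by
    rw [h3, MonoidHom.mem_ker, ← hfg2]
    exact hz
  exact Sf_map hfg2 h4

/-- **Two covers with coprime kernels.** -/
theorem fuse (hM : Cfsg.HasSchurMultiplier K A) {K2 : Type w} [Group K2] {π2 : K2 →* K} (h2 : PCE π2)
    {K3 : Type x'} [Group K3] {π3 : K3 →* K} (h3 : PCE π3) (hco : (Nat.card π2.ker).Coprime (Nat.card π3.ker))
    (hcard : Nat.card π2.ker * Nat.card π3.ker = Nat.card A) {k : K} (hx2 : ∃ y, π2 y = k ∧ Sf π2 h2.cen y = π2.ker)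
    (hx3 : ∃ y, π3 y = k ∧ Sf π3 h3.cen y = π3.ker)
    {L : Type u} [Group L] {π : L →* K} (hπ : PCE π) {y : L} (hy : π y = k) : Sf π hπ.cen y = π.ker := by
  have hA : Finite A := Cfsg.Agent.H487.finite_multiplier hM
  obtain ⟨D, _, f, g, hf, hg, hfg, hD, -⟩ := exists_common h2 h3
  have hf2 : ∀ d, π2 (f d) = (π2.comp f) d := fun _ => rfl
  have hf3 : ∀ d, π3 (g d) = (π2.comp f) d := fun d => (DFunLike.congr_fun hfg d).symm
  obtain ⟨y2, hy2, hS2⟩ := hx2
  obtain ⟨y3, hy3, hS3⟩ := hx3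
  have h1 : Nat.card (π2.comp f).ker ∣ Nat.card A := card_ker_dvd hM hD
  have hfin : Finite (π2.comp f).ker :=
    Nat.finite_of_card_ne_zero fun h => by rw [h] at h1; exact Nat.card_pos.ne' (Nat.eq_zero_of_zero_dvd h1)
  have key : ∀ d, (π2.comp f) d = k → Nat.card A ∣ Nat.card ↥(Sf (π2.comp f) hD.cen d) := by
    intro d hd
    have e2 := card_dvd_Sf (hcD := hD.cen) (hc := h2.cen) hf.surj hf2 (y := d)
      (Sf_eq_ker_of hS2 (by rw [hf2, hd, hy2]))
    have e3 := card_dvd_Sf (hcD := hD.cen) (hc := h3.cen) hg.surj hf3 (y := d)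
      (Sf_eq_ker_of hS3 (by rw [hf3, hd, hy3]))
    rw [← hcard]
    exact hco.mul_dvd_of_dvd_of_dvd e2 e3
  have hle : ∀ d, (π2.comp f) d = k → Nat.card A ≤ Nat.card (π2.comp f).ker ∧
      Sf (π2.comp f) hD.cen d = (π2.comp f).ker := by
    intro d hd
    have hfin' : Finite ↥(Sf (π2.comp f) hD.cen d) := Finite.Set.subset ((π2.comp f).ker : Set D) (Sf_le d)
    have e1 := Nat.le_of_dvd Nat.card_pos (key d hd)
    have e2 : Nat.card ↥(Sf (π2.comp f) hD.cen d) ≤ Nat.card (π2.comp f).ker := Nat.le_of_dvd Nat.card_pos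
      (Subgroup.card_dvd_of_le (Sf_le d))
    exact ⟨e1.trans e2, Subgroup.eq_of_le_of_card_ge (Sf_le d) ((Nat.le_of_dvd Nat.card_pos h1).trans e1)⟩
  obtain ⟨d0, hd0⟩ := hD.surj k
  exact fuse_one hM hD (Nat.dvd_antisymm h1 (by
    have := (hle d0 hd0).1
    have h4 := Nat.le_of_dvd Nat.card_pos h1
    rw [le_antisymm h4 this])) (fun y hy => (hle y hy).2) hπ hy

/-- the conjugating element -/
theorem exists_conj {L : Type u} [Group L] {π : L →* K} {hc : π.ker ≤ center L} {y z : L} (h : Sf π hc y = π.ker)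
    (hz : π z = 1) : ∃ c, c * y * c⁻¹ = y * z := by
  have h1 : z ∈ Sf π hc y := by rw [h]; exact hz
  exact h1.2

end main

end Cfsg.Agent.H326.QS.Fuse
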